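/-
In odd characteristic every Siegel element is a commutator of a reflection and a Siegel element, and the
group Ω is irreducible, primitive and normalises no proper geometric structure of the odd-dimensional classes.
-/
import Cfsg.Agent.Lib.Transvec.QuadGen
import Cfsg.Agent.Lib.Transvec.OrthStab
import Cfsg.Agent.Lib.Aschbacher.FormWreath

set_option autoImplicit false

namespace Cfsg.Agent.OrthOddMax

open scoped Matrix commutatorElement Kronecker
open Matrix Cfsg.Agent.Transvec Cfsg.Agent.Transvec.Orth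

variable {ι : Type} [Fintype ι] [DecidableEq ι] {F : Type*} [Field F] {Q : (ι → F) → F}
variable (hQ : Geo.IsNondegenerateQuadraticForm Q) (h2 : (2 : F) ≠ 0)
include hQ h2

/-- A Siegel element with anisotropic parameter is a commutator. -/
theorem siegel_mem_of_aniso {g : GL ι F} {u a : ι → F} (hu : Q u = 0) (ha : pol Q u a = 0)
    (ha0 : Q a ≠ 0) (h : IsSiegel Q g u a) : g ∈ Geo.omegaGL Q := by
  obtain ⟨r, hr, hr'⟩ := exists_refl hQ ha0
  set w := -((2 : F)⁻¹ • a) with hw
  have huw : pol Q u w = 0 := by rw [hw, pol_neg_right hQ, pol_smul_right hQ, ha, mul_zero, neg_zero]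
  obtain ⟨s, hs, hs'⟩ := exists_siegel hQ hu huw
  obtain ⟨s', -, hs''⟩ := exists_siegel hQ hu (show pol Q u (-w) = 0 by rw [pol_neg_right hQ, huw, neg_zero])
  have hsinv : s⁻¹ = s' := inv_eq_of_mul_eq_one_right (isSiegel_unique
    (by simpa using isSiegel_mul hQ hu huw (by rw [pol_neg_right hQ, huw, neg_zero]) hs' hs'')
    (isSiegel_zero hQ u))
  have hra : mv r a = -a := by
    rw [hr'.2, pol_self hQ, mul_div_assoc, div_self ha0, mul_one, two_smul, sub_add_eq_sub_sub, sub_self, zero_sub]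
  have hrw : mv r w = (2 : F)⁻¹ • a := by
    rw [hw, mv_neg, mv_smul, hra, smul_neg, neg_neg]
  have hru : mv r u = u := isRefl_fix hr' ha
  have hc := isSiegel_conj hQ hr hs'
  rw [hru, hrw] at hc
  have hm : IsSiegel Q (r * s * r⁻¹ * s⁻¹) u ((2 : F)⁻¹ • a + -w) := by
    rw [hsinv]
    exact isSiegel_mul hQ hu (by rw [pol_smul_right hQ, ha, mul_zero]) (by rw [pol_neg_right hQ, huw, neg_zero])
      hc hs''
  have hval : (2 : F)⁻¹ • a + -w = a := by
    rw [hw, neg_neg, ← add_smul, show (2 : F)⁻¹ + (2 : F)⁻¹ = 1 by field_simp; norm_num, one_smul]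
  rw [hval] at hm
  rw [isSiegel_unique h hm]
  refine ⟨⁅(⟨r, hr⟩ : isometryGroup F Q), ⟨s, hs⟩⁆, ?_, ?_⟩
  · exact Subgroup.commutator_mem_commutator (Subgroup.mem_top _) (Subgroup.mem_top _)
  · rfl

omit h2 in
/-- The perp of a vector is large. -/
theorem finrank_perp (u : ι → F) :
    Fintype.card ι ≤ 1 + Module.finrank F ↥(orth hQ (Submodule.span F {u})) := by
  have h := LinearMap.finrank_range_add_finrank_ker (formQ hQ u)
  have h1 : Module.finrank F ↥(LinearMap.range (formQ hQ u)) ≤ 1 :=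
    (Submodule.finrank_le _).trans (Module.finrank_self F).le
  have h3 : LinearMap.ker (formQ hQ u) ≤ orth hQ (Submodule.span F {u}) := fun v hv => by
    refine (mem_orth_span hQ).2 fun w hw => ?_
    rw [Set.mem_singleton_iff.1 hw, pol_comm]
    exact hv
  have h4 := Submodule.finrank_mono h3
  rw [Module.finrank_pi] at h
  omega

/-- Every vector has an orthogonal anisotropic vector. -/
theorem exists_aniso_perp (hn : 3 ≤ Fintype.card ι) (u : ι → F) : ∃ a, pol Q u a = 0 ∧ Q a ≠ 0 := by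
  by_contra! h
  set L := orth hQ (Submodule.span F {u})
  have hL : ∀ x ∈ L, Q x = 0 := fun x hx =>
    h x ((mem_orth_span hQ).1 hx u rfl)
  have hp : ∀ x ∈ L, ∀ y ∈ L, pol Q x y = 0 := fun x hx y hy => pol_eq_zero_of_singular hQ hL hx hy
  have := finrank_totally_orth_le hQ (nondeg_top hQ) le_top hp
  have h4 : Fintype.card ι ≤ 1 + Module.finrank F ↥L := finrank_perp hQ u
  rw [finrank_top, Module.finrank_pi] at this
  omega

/-- Every Siegel element lies in Ω. -/
theorem siegel_mem (hn : 3 ≤ Fintype.card ι) {g : GL ι F} {u y : ι → F} (hu : Q u = 0) (hy : pol Q u y = 0)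
    (h : IsSiegel Q g u y) : g ∈ Geo.omegaGL Q := by
  by_cases hy0 : Q y = 0
  swap
  · exact siegel_mem_of_aniso hQ h2 hu hy hy0 h
  obtain ⟨a, hua, ha⟩ := exists_aniso_perp hQ h2 hn u
  obtain ⟨c, hc, hQc⟩ : ∃ c : F, c ≠ 0 ∧ Q (y - c • a) ≠ 0 := by
    by_cases h1 : Q (y - (1 : F) • a) = 0
    · refine ⟨2, h2, fun h3 => ha ?_⟩
      rw [q_sub hQ, q_smul hQ, pol_smul_right hQ, hy0] at h1 h3
      have : (2 : F) * Q a = 0 := by linear_combination h3 - 2 * h1
      exact (mul_eq_zero.1 this).resolve_left h2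
    · exact ⟨1, one_ne_zero, h1⟩
  have h1 : pol Q u (c • a) = 0 := by rw [pol_smul_right hQ, hua, mul_zero]
  have h3 : pol Q u (y - c • a) = 0 := by rw [pol_sub_right hQ, hy, h1, sub_zero]
  obtain ⟨g₁, -, hg₁⟩ := exists_siegel hQ hu h1
  obtain ⟨g₂, -, hg₂⟩ := exists_siegel hQ hu h3
  have hm := isSiegel_mul hQ hu h1 h3 hg₁ hg₂
  rw [add_sub_cancel] at hm
  rw [isSiegel_unique h hm]
  exact mul_mem (siegel_mem_of_aniso hQ h2 hu h1 (by rw [q_smul hQ]; exact mul_ne_zero (pow_ne_zero 2 hc) ha) hg₁)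
    (siegel_mem_of_aniso hQ h2 hu h3 hQc hg₂)

theorem exists_siegel_ne_one {u y : ι → F} (hu : Q u = 0) (hu0 : u ≠ 0) (hy : pol Q u y = 0) (hy0 : Q y ≠ 0) :
    ∃ g, IsSiegel Q g u y ∧ g ≠ 1 := by
  obtain ⟨g, -, hg⟩ := exists_siegel hQ hu hy
  refine ⟨g, hg, fun h1 => ?_⟩
  subst h1
  obtain ⟨z, -, hz0, hzu⟩ := exists_partner hQ (nondeg_top hQ) Submodule.mem_top hu0 hu
  have e := hg z
  rw [mv_one] at e
  have e' := congrArg (fun v => pol Q v y) e
  simp only [pol_add_left hQ, pol_sub_left hQ, pol_smul_left hQ, pol_comm z u, hzu, hy, pol_self hQ] at e'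
  simp only [mul_zero, sub_zero, one_mul, left_eq_add] at e'
  exact mul_ne_zero h2 hy0 e'

omit hQ h2 in
/-- All Siegel elements lie in M. -/
def SiegelIn (Q : (ι → F) → F) (M : Subgroup (GL ι F)) : Prop :=
  ∀ (g : GL ι F) (u y : ι → F), Q u = 0 → pol Q u y = 0 → IsSiegel Q g u y → g ∈ M

theorem siegelIn_of_omega_le (hn : 3 ≤ Fintype.card ι) {M : Subgroup (GL ι F)} (h : Geo.omegaGL Q ≤ M) :
    SiegelIn Q M := fun _ _ _ hu hy hg => h (siegel_mem hQ h2 hn hu hy hg)

variable [Finite F]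

/-- The Siegel elements fix no proper subspace. -/
theorem not_siegelIn_subspace (hn : 3 ≤ Fintype.card ι) {W : Submodule F (ι → F)} (h0 : W ≠ ⊥) (h1 : W ≠ ⊤) :
    ¬ SiegelIn Q (Geo.subspaceStabilizer W) := by
  intro hle
  obtain ⟨w, hw, hw0⟩ := W.ne_bot_iff.1 h0
  have htop : 3 ≤ Module.finrank F ↥(⊤ : Submodule F (ι → F)) := by rwa [finrank_top, Module.finrank_pi]
  obtain ⟨u, -, hu, hwu⟩ := exists_singular_not_orth hQ (nondeg_top hQ) htop Submodule.mem_top hw0
  have hu0 : u ≠ 0 := fun h => hwu (by rw [h, pol_zero_right hQ])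
  have key : ∀ y, pol Q u y = 0 → pol Q w u • y - (pol Q w y + Q y * pol Q w u) • u ∈ W := by
    intro y hy
    obtain ⟨g, -, hg⟩ := exists_siegel hQ hu hy
    have hm := mv_mem_of_mem_stab (hle g u y hu hy hg) hw
    rw [hg w, add_sub_assoc] at hm
    simpa using W.sub_mem hm hw
  obtain ⟨a, hua, ha⟩ := exists_aniso_perp hQ h2 hn u
  have hmu : u ∈ W := by
    have e1 := key a hua
    have e2 := key (-a) (by rw [pol_neg_right hQ, hua, neg_zero])
    rw [pol_neg_right hQ, q_neg hQ] at e2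
    have e := W.add_mem e1 e2
    rw [show pol Q w u • a - (pol Q w a + Q a * pol Q w u) • u +
        (pol Q w u • -a - (-pol Q w a + Q a * pol Q w u) • u) = (-(2 * Q a * pol Q w u)) • u by module] at e
    exact (W.smul_mem_iff (neg_ne_zero.2 (mul_ne_zero (mul_ne_zero h2 ha) hwu))).1 e
  have hperp : ∀ y, pol Q u y = 0 → y ∈ W := fun y hy => by
    have := W.add_mem (key y hy) (W.smul_mem (pol Q w y + Q y * pol Q w u) hmu)
    rw [sub_add_cancel] at this
    exact (W.smul_mem_iff hwu).1 this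
  refine h1 (Submodule.eq_top_iff'.2 fun z => ?_)
  have hwz : z - (pol Q u z / pol Q w u) • w ∈ W := hperp _ (by
    rw [pol_sub_right hQ, pol_smul_right hQ, pol_comm u w, div_mul_cancel₀ _ hwu, sub_self])
  simpa using W.add_mem hwz (W.smul_mem (pol Q u z / pol Q w u) hw)

/-- A matrix commuting with all Siegel elements is a scalar. -/
theorem scalar_of_commute (hn : 3 ≤ Fintype.card ι) {X : Matrix ι ι F}
    (hX : ∀ (g : GL ι F) (u y : ι → F), Q u = 0 → pol Q u y = 0 → IsSiegel Q g u y →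
      (g : Matrix ι ι F) * X = X * (g : Matrix ι ι F)) :
    ∃ c : F, X = c • (1 : Matrix ι ι F) := by
  have htop : 3 ≤ Module.finrank F ↥(⊤ : Submodule F (ι → F)) := by rwa [finrank_top, Module.finrank_pi]
  obtain ⟨u, -, hu0, hu⟩ := exists_singular hQ htop
  obtain ⟨d, -, hd, hud⟩ := exists_partner hQ (nondeg_top hQ) Submodule.mem_top hu0 hu
  set v := X *ᵥ u with hv
  have huu : pol Q u u = 0 := by rw [pol_self hQ, hu, mul_zero]
  -- X u is fixed by the Siegel elements at u
  have hfix : ∀ y, pol Q u y = 0 → pol Q v u • y - (pol Q v y + Q y * pol Q v u) • u = 0 := by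
    intro y hy
    obtain ⟨g, -, hg⟩ := exists_siegel hQ hu hy
    have hgu : mv g u = u := isSiegel_fix hQ hg huu hy
    have e := congrArg (fun M => M *ᵥ u) (hX g u y hu hy hg)
    simp only [← Matrix.mulVec_mulVec] at e
    change mv g v = X *ᵥ mv g u at e
    rw [hgu, ← hv, hg v, add_sub_assoc] at e
    exact add_eq_left.1 e
  obtain ⟨a, hua, ha⟩ := exists_aniso_perp hQ h2 hn u
  have hvu : pol Q v u = 0 := by
    have e := congrArg (fun z => pol Q z a) (hfix a hua)
    simp only [pol_sub_left hQ, pol_smul_left hQ, hua, mul_zero, sub_zero, pol_zero_left hQ, pol_self hQ] at e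
    exact (mul_eq_zero.1 e).resolve_right (mul_ne_zero h2 ha)
  have hvy : ∀ y, pol Q u y = 0 → pol Q v y = 0 := fun y hy => by
    have e := hfix y hy
    rw [hvu, zero_smul, mul_zero, add_zero, zero_sub, neg_eq_zero, smul_eq_zero] at e
    exact e.resolve_right hu0
  set c := pol Q v d with hc
  have hvc : v = c • u := by
    refine sub_eq_zero.1 (nondeg_top hQ (v - c • u) Submodule.mem_top fun z _ => ?_)
    have hz : pol Q u (z - pol Q u z • d) = 0 := by
      rw [pol_sub_right hQ, pol_smul_right hQ, hud, mul_one, sub_self]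
    have e := hvy _ hz
    rw [pol_sub_right hQ, pol_smul_right hQ] at e
    rw [pol_sub_right hQ, pol_smul_right hQ, pol_comm z v, pol_comm z u]
    linear_combination e
  let W : Submodule F (ι → F) := LinearMap.ker (Matrix.toLin' X - c • LinearMap.id)
  have hmem : ∀ x, x ∈ W ↔ X *ᵥ x = c • x := fun x => by
    rw [LinearMap.mem_ker, LinearMap.sub_apply, sub_eq_zero]
    simp
  refine ⟨c, ?_⟩
  by_cases hW : W = ⊤
  · refine Matrix.ext_of_mulVec_single fun i => ?_
    rw [(hmem _).1 (hW ▸ Submodule.mem_top), Matrix.smul_mulVec, Matrix.one_mulVec]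
  exfalso
  refine not_siegelIn_subspace hQ h2 hn (W := W) (W.ne_bot_iff.2 ⟨u, (hmem u).2 hvc, hu0⟩) hW
    fun g u' y' hu' hy' hg => ?_
  have hcomm := hX g u' y' hu' hy' hg
  exact mem_subspaceStabilizer_of_le fun x hx => (hmem _).2 (by
    show X *ᵥ ((g : Matrix ι ι F) *ᵥ x) = c • ((g : Matrix ι ι F) *ᵥ x)
    rw [Matrix.mulVec_mulVec, ← hcomm, ← Matrix.mulVec_mulVec, (hmem x).1 hx, Matrix.mulVec_smul])

end Cfsg.Agent.OrthOddMax
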