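/-
No decomposition, field, subfield or tensor-square structure is preserved by all Siegel elements.
-/
import Cfsg.Agent.Lib.OrthOddMax.Siegel

set_option autoImplicit false

namespace Cfsg.Agent.OrthOddMax

open scoped Matrix Kronecker
open Matrix Cfsg.Agent.Transvec Cfsg.Agent.Transvec.Orth Cfsg.Agent.Aschbacher

variable {ι : Type} [Fintype ι] [DecidableEq ι] {F : Type*} [Field F] [Finite F] {Q : (ι → F) → F}
variable (hQ : Geo.IsNondegenerateQuadraticForm Q) (h2 : (2 : F) ≠ 0)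
include hQ h2

omit h2 [Finite F] in
/-- Four linear conditions have a common non-zero solution in dimension at least five. -/
theorem exists_killed (hn : 5 ≤ Fintype.card ι) (X : Matrix ι ι F) (u y : ι → F) :
    ∃ z, z ≠ 0 ∧ pol Q z u = 0 ∧ pol Q z y = 0 ∧ pol Q (X *ᵥ z) u = 0 ∧ pol Q (X *ᵥ z) y = 0 := by
  let φ : (ι → F) →ₗ[F] (F × F) × (F × F) :=
    ((formQ hQ u).prod (formQ hQ y)).prod
      (((formQ hQ u).comp (Matrix.toLin' X)).prod ((formQ hQ y).comp (Matrix.toLin' X)))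
  have hker : LinearMap.ker φ ≠ ⊥ := by
    intro h
    have h' := LinearMap.finrank_le_finrank_of_injective (LinearMap.ker_eq_bot.1 h)
    simp only [Module.finrank_prod, Module.finrank_self, Module.finrank_pi] at h'
    omega
  obtain ⟨z, hz, hz0⟩ := (Submodule.ne_bot_iff _).1 hker
  have hz' : φ z = 0 := hz
  simp only [φ, LinearMap.prod_apply, Function.prod, LinearMap.comp_apply, formQ_apply, Prod.mk_eq_zero,
    Matrix.toLin'_apply] at hz'
  exact ⟨z, hz0, hz'.1.1, hz'.1.2, hz'.2.1, hz'.2.2⟩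

/-- No field extension is normalised. -/
theorem not_siegelIn_field (hn : 5 ≤ Fintype.card ι) {r : ℕ} (hr : 2 ≤ r) {K : Subalgebra F (Matrix ι ι F)}
    (hK : Geo.IsFieldSubalgebra r K) : ¬ SiegelIn Q (Geo.subalgebraNormalizer K) := by
  intro hle
  have hbot : ∀ X ∈ K, ∃ c : F, X = c • (1 : Matrix ι ι F) := by
    intro X hX
    refine scalar_of_commute hQ h2 (by omega) fun g u y hu hy hg => ?_
    have hD : (g : Matrix ι ι F) * X * ((g⁻¹ : GL ι F) : Matrix ι ι F) - X ∈ K :=
      sub_mem ((hle g u y hu hy hg X).1 hX) hX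
    set D := (g : Matrix ι ι F) * X * ((g⁻¹ : GL ι F) : Matrix ι ι F) - X with hDdef
    by_cases hD0 : D = 0
    · exact (Units.mul_inv_eq_iff_eq_mul g).1 (sub_eq_zero.1 hD0)
    exfalso
    obtain ⟨Y, -, hY⟩ := hK.inv _ hD hD0
    obtain ⟨z, hz, h1, h3, h4, h5⟩ := exists_killed hQ hn X u y
    have e1 : mv g z = z := isSiegel_fix hQ hg h1 h3
    have e3 : mv g (X *ᵥ z) = X *ᵥ z := isSiegel_fix hQ hg h4 h5
    have e2 : mv g⁻¹ z = z := by conv_lhs => rw [← e1, mv_inv_mv]
    have e4 : D *ᵥ z = 0 := by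
      rw [hDdef, Matrix.sub_mulVec, ← Matrix.mulVec_mulVec, ← Matrix.mulVec_mulVec]
      change mv g (X *ᵥ mv g⁻¹ z) - _ = 0
      rw [e2, e3, sub_self]
    have h' := congrArg (fun M => M *ᵥ z) (mul_eq_one_comm.1 hY)
    simp only [← Matrix.mulVec_mulVec, e4, Matrix.mulVec_zero, Matrix.one_mulVec] at h'
    exact hz h'.symm
  haveI : Nonempty ι := Fintype.card_pos_iff.1 (by omega)
  have : K = ⊥ := le_antisymm (fun X hX => by
    obtain ⟨c, rfl⟩ := hbot X hX
    exact Subalgebra.smul_mem _ (one_mem _) c) bot_le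
  have h := hK.finrank_eq
  rw [this, Subalgebra.finrank_bot] at h
  omega

/-- No orthogonal decomposition is stabilised. -/
theorem not_siegelIn_decomposition {t k : ℕ} {D : Fin t → Submodule F (ι → F)}
    (hD : Geo.IsNondegenerateMDecomposition (QuadraticMap.polar Q) k D) (h3 : k + 3 ≤ Fintype.card ι) :
    ¬ SiegelIn Q (Geo.decompositionStabilizer D) := by
  intro hle
  have ht := hD.decomp.two_le
  let i₀ : Fin t := ⟨0, by omega⟩
  set S : Submodule F (ι → F) := ⨆ j, ⨆ (_ : j ≠ i₀), D j with hS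
  have hdisj : Disjoint (D i₀) S := hD.decomp.indep i₀
  have hjS : ∀ {j}, j ≠ i₀ → D j ≤ S := fun {j} hj => le_iSup₂ (f := fun l (_ : l ≠ i₀) => D l) j hj
  have htop : D i₀ ⊔ S = ⊤ := by
    refine top_le_iff.1 (hD.decomp.iSup_eq_top ▸ iSup_le fun j => ?_)
    by_cases hj : j = i₀
    · exact hj ▸ le_sup_left
    · exact (hjS hj).trans le_sup_right
  have hS3 : 3 ≤ Module.finrank F S := by
    have h := Submodule.finrank_add_le_finrank_add_finrank (D i₀) S
    rw [htop, finrank_top, Module.finrank_pi, hD.decomp.finrank_eq] at h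
    omega
  obtain ⟨u, huS, hu0, hu⟩ := exists_singular hQ hS3
  have hne : D i₀ ≠ ⊥ := fun h => by
    have := hD.decomp.finrank_eq i₀
    rw [h, finrank_bot] at this
    have := hD.decomp.pos
    omega
  have hnd : Nondeg Q (D i₀) := fun w hw h => by
    by_contra hw0
    obtain ⟨⟨x, hx, hxw⟩, -⟩ := hD.nondegenerate i₀ w hw hw0
    exact hxw (h x hx)
  obtain ⟨y, hyD, hy⟩ := exists_anisotropic hQ hnd hne
  have huy : pol Q u y = 0 := by
    have : S ≤ LinearMap.ker (formQ hQ y) := iSup₂_le fun j hj v hv => hD.orthogonal j i₀ hj v hv y hyD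
    exact this huS
  obtain ⟨g, -, hg⟩ := exists_siegel hQ hu huy
  obtain ⟨τ, hτ⟩ := hle g u y hu huy hg
  have hgy : mv g y = y - (2 * Q y) • u := by
    rw [hg y, pol_comm y u, huy, pol_self hQ, zero_smul, add_zero, mul_zero, add_zero]
  have hmem : y - (2 * Q y) • u ∈ D (τ i₀) := by
    rw [← hτ i₀, ← hgy]
    exact ⟨y, hyD, Matrix.toLin'_apply _ _⟩
  have hc : (2 * Q y) ≠ 0 := mul_ne_zero h2 hy
  by_cases hj : τ i₀ = i₀
  · rw [hj] at hmem
    have h' : (2 * Q y) • u ∈ D i₀ := by simpa using (D i₀).sub_mem hyD hmem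
    exact hu0 (Submodule.disjoint_def.1 hdisj u (((D i₀).smul_mem_iff hc).1 h') huS)
  · have h' : y ∈ S := by simpa using S.add_mem (hjS hj hmem) (S.smul_mem (2 * Q y) huS)
    exact hy (by rw [Submodule.disjoint_def.1 hdisj y hyD h', q_zero hQ])

omit h2 [Finite F] in
theorem siegel_pow {g : GL ι F} {u y : ι → F} (hu : Q u = 0) (hy : pol Q u y = 0) (h : IsSiegel Q g u y) :
    ∀ n : ℕ, IsSiegel Q (g ^ n) u ((n : F) • y) := by
  intro n
  induction n with
  | zero => simpa using isSiegel_zero hQ u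
  | succ n ih =>
    rw [pow_succ, Nat.cast_succ, add_smul, one_smul]
    exact isSiegel_mul hQ hu (by rw [pol_smul_right hQ, hy, mul_zero]) hy ih h

/-- No subfield group contains all Siegel elements. -/
theorem not_siegelIn_subfield (hn : 3 ≤ Fintype.card ι) {F₀ : Subfield F} (hne : F₀ ≠ ⊤) (P : GL ι F) :
    ¬ SiegelIn Q (Geo.subfieldSubgroup F₀ P) := by
  classical
  intro hle
  haveI : Nonempty ι := Fintype.card_pos_iff.1 (by omega)
  obtain ⟨p, hchar⟩ := CharP.exists F
  haveI := Fact.mk (CharP.char_is_prime F p)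
  set w : ι → ι → F := fun j => (P : Matrix ι ι F) *ᵥ Pi.single j 1 with hw
  have hent : ∀ (g : GL ι F) (u y : ι → F), Q u = 0 → pol Q u y = 0 → IsSiegel Q g u y →
      ∀ i j, (((P⁻¹ : GL ι F) : Matrix ι ι F) *ᵥ mv g (w j)) i ∈ F₀ := by
    intro g u y hu hy hg
    obtain ⟨g', hg', hgg'⟩ := hle g u y hu hy hg
    obtain ⟨a, ⟨g₀, rfl⟩, z, hz, rfl⟩ := Subgroup.mem_sup_of_normal_right.1 hg'
    obtain ⟨c, hc⟩ := (Geo.mem_scalars_iff z).1 hz
    set G₀ := Matrix.GeneralLinearGroup.map (F₀.subtype : F₀ →+* F) g₀ with hG₀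
    have hconj : P⁻¹ * g * P = G₀ * z := by
      rw [← hgg']
      simp [mul_assoc]
    have hzc : Commute G₀ z := (Aschbacher.scalars_comm hz G₀).symm
    have hp1 : g ^ p = 1 := by
      have h := siegel_pow hQ hu hy hg p
      rw [CharP.cast_eq_zero, zero_smul] at h
      exact isSiegel_unique h (isSiegel_zero hQ u)
    have hp : G₀ ^ p * z ^ p = 1 := by
      rw [← hzc.mul_pow, ← hconj, show P⁻¹ * g * P = MulAut.conj P⁻¹ g by simp [mul_assoc], ← map_pow, hp1,
        map_one]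
    have hcp : (c : F) ^ p ∈ F₀ := by
      obtain ⟨i⟩ := ‹Nonempty ι›
      have h' := congrArg (fun M : GL ι F => (M : Matrix ι ι F) i i) hp
      simp only [Units.val_mul, Units.val_pow_eq_pow_val, hc, smul_pow, one_pow, Matrix.mul_smul, mul_one,
        Matrix.smul_apply, smul_eq_mul, Units.val_one, Matrix.one_apply_eq] at h'
      have hmem : ((G₀ : Matrix ι ι F) ^ p) i i ∈ F₀ := by
        rw [← Units.val_pow_eq_pow_val, hG₀, ← map_pow]
        exact SetLike.coe_mem _
      rw [eq_inv_of_mul_eq_one_left h']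
      exact inv_mem hmem
    have hcF : (c : F) ∈ F₀ := by
      have hinj : Function.Injective fun x : F₀ => (⟨(x : F) ^ p, pow_mem x.2 p⟩ : F₀) :=
        fun x x' h => Subtype.ext (frobenius_inj F p (congrArg Subtype.val h))
      obtain ⟨d, hd⟩ := (Finite.injective_iff_surjective.1 hinj) ⟨_, hcp⟩
      rw [← show ((d : F₀) : F) = c from frobenius_inj F p (congrArg Subtype.val hd)]
      exact d.2
    intro i j
    have hval : ((P⁻¹ : GL ι F) : Matrix ι ι F) *ᵥ mv g (w j) =
        (c : F) • (fun l => (G₀ : Matrix ι ι F) l j) := by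
      show ((P⁻¹ : GL ι F) : Matrix ι ι F) *ᵥ ((g : Matrix ι ι F) *ᵥ ((P : Matrix ι ι F) *ᵥ _)) = _
      rw [Matrix.mulVec_mulVec, Matrix.mulVec_mulVec, ← Units.val_mul, ← Units.val_mul, hconj, Units.val_mul,
        hc, Matrix.mul_smul, mul_one, Matrix.smul_mulVec, Matrix.mulVec_single_one]
      rfl
    rw [hval]
    exact mul_mem hcF (SetLike.coe_mem (g₀.val i j))
  obtain ⟨u, -, hu0, hu⟩ := exists_singular hQ (X := (⊤ : Submodule F (ι → F)))
    (by rwa [finrank_top, Module.finrank_pi])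
  obtain ⟨b, hub, hb⟩ := exists_aniso_perp hQ h2 hn u
  let A : (ι → F) →ₗ[F] ι → F := (formQ hQ u).smulRight b - (formQ hQ b).smulRight u
  have hA : ∀ (a : F) (z : ι → F), ∀ g g' : GL ι F, IsSiegel Q g u (a • b) → IsSiegel Q g' u (-(a • b)) →
      mv g z - mv g' z = (2 * a) • A z := by
    intro a z g g' hg hg'
    rw [hg z, hg' z]
    simp only [A, LinearMap.sub_apply, LinearMap.smulRight_apply, formQ_apply, pol_neg_right hQ, q_neg hQ,
      pol_smul_right hQ]
    module
  have hAB : ∀ (a : F) i j, 2 * a * (((P⁻¹ : GL ι F) : Matrix ι ι F) *ᵥ A (w j)) i ∈ F₀ := by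
    intro a i j
    have h1 : pol Q u (a • b) = 0 := by rw [pol_smul_right hQ, hub, mul_zero]
    have h1' : pol Q u (-(a • b)) = 0 := by rw [pol_neg_right hQ, h1, neg_zero]
    obtain ⟨g, -, hg⟩ := exists_siegel hQ hu h1
    obtain ⟨g', -, hg'⟩ := exists_siegel hQ hu h1'
    have := sub_mem (hent g u _ hu h1 hg i j) (hent g' u _ hu h1' hg' i j)
    rwa [← Pi.sub_apply, ← Matrix.mulVec_sub, hA a (w j) g g' hg hg', Matrix.mulVec_smul, Pi.smul_apply,
      smul_eq_mul] at this
  obtain ⟨i, j, hij⟩ : ∃ i j, (((P⁻¹ : GL ι F) : Matrix ι ι F) *ᵥ A (w j)) i ≠ 0 := by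
    by_contra! h
    have hzero : A.comp (Matrix.toLin' (P : Matrix ι ι F)) = 0 := (Pi.basisFun F ι).ext fun j => by
      rw [Pi.basisFun_apply, LinearMap.comp_apply, Matrix.toLin'_apply, LinearMap.zero_apply]
      have : ((P⁻¹ : GL ι F) : Matrix ι ι F) *ᵥ A (w j) = 0 := funext fun i => h i j
      exact Transvec.mv_inj P⁻¹ (this.trans (Transvec.mv_zero P⁻¹).symm)
    have h' := LinearMap.congr_fun hzero (((P⁻¹ : GL ι F) : Matrix ι ι F) *ᵥ b)
    rw [LinearMap.comp_apply, Matrix.toLin'_apply, Matrix.mulVec_mulVec, Units.mul_inv, Matrix.one_mulVec,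
      LinearMap.zero_apply] at h'
    simp only [A, LinearMap.sub_apply, LinearMap.smulRight_apply, formQ_apply, pol_comm b u, hub, zero_smul,
      zero_sub, neg_eq_zero, pol_self hQ, smul_eq_zero] at h'
    exact h'.elim (mul_ne_zero h2 hb) hu0
  refine hne (top_le_iff.1 fun a _ => ?_)
  have e := mul_mem (hAB a i j) (inv_mem (hAB 1 i j))
  rwa [show 2 * a * (((P⁻¹ : GL ι F) : Matrix ι ι F) *ᵥ A (w j)) i *
      (2 * 1 * (((P⁻¹ : GL ι F) : Matrix ι ι F) *ᵥ A (w j)) i)⁻¹ = a by field_simp] at e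

omit hQ h2 [Finite F] [Fintype ι] [DecidableEq ι] in
/-- A matrix with every vector an eigenvector is scalar. -/
theorem eq_smul_one_of_eigen {a : ℕ} [NeZero a] {M : Matrix (Fin a) (Fin a) F}
    (h : ∀ x, ∃ c : F, M *ᵥ x = c • x) : ∃ c : F, M = c • (1 : Matrix (Fin a) (Fin a) F) := by
  classical
  choose c hc using fun i : Fin a => h (Pi.single i 1)
  obtain ⟨l, hl⟩ := h (fun _ => 1)
  have hcol : ∀ i r, M r i = if r = i then c i else 0 := fun i r => by
    have := congrFun (hc i) r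
    rw [Matrix.mulVec_single_one, Pi.smul_apply, Pi.single_apply, smul_eq_mul] at this
    rw [show M r i = M.col i r from rfl, this]
    split_ifs <;> simp
  refine ⟨l, Matrix.ext fun r i => ?_⟩
  have hrow := congrFun hl i
  rw [Pi.smul_apply, smul_eq_mul, mul_one, Matrix.mulVec, dotProduct] at hrow
  simp only [mul_one, hcol, Finset.sum_ite_eq, Finset.mem_univ, if_true] at hrow
  rw [hcol, Matrix.smul_apply, Matrix.one_apply, hrow, smul_eq_mul, mul_ite, mul_one, mul_zero]

omit hQ h2 [Finite F] in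
theorem permGL_mul {κ : Type} [Fintype κ] [DecidableEq κ] (π π' : Equiv.Perm κ) :
    (permGL π : GL κ F) * permGL π' = permGL (π.trans π') :=
  Units.ext (Matrix.ext fun x z => by
    show ((1 : Matrix κ κ F).submatrix π id * (1 : Matrix κ κ F).submatrix π' id) x z =
      (1 : Matrix κ κ F).submatrix (π.trans π') id x z
    rw [Matrix.mul_apply, Finset.sum_eq_single (π x)]
    · simp [Matrix.one_apply]
    · intro j _ hj
      simp [Ne.symm hj]
    · simp)

omit hQ h2 [Finite F] in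
theorem permGL_refl {κ : Type} [Fintype κ] [DecidableEq κ] : (permGL (Equiv.refl κ) : GL κ F) = 1 :=
  Units.ext (Matrix.ext fun x z => by
    show (1 : Matrix κ κ F).submatrix (Equiv.refl κ) id x z = (1 : Matrix κ κ F) x z
    rfl)

/-- No tensor square is stabilised. -/
theorem not_siegelIn_tensorSquare {a : ℕ} (ha : 3 ≤ a) (e : ι ≃ (Fin 2 → Fin a)) (P : GL ι F) :
    ¬ SiegelIn Q (Geo.tensorWreathSubgroup a 2 e P) := by
  classical
  intro hle
  haveI : NeZero a := ⟨by omega⟩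
  have hcard : Fintype.card ι = a ^ 2 := by simp [Fintype.card_congr e]
  have hn : 3 ≤ Fintype.card ι := by rw [hcard]; nlinarith
  -- every element is a permutation times a pure tensor
  have hrep : ∀ x ∈ Geo.tensorWreathStandard a 2 F, ∃ (τ : Equiv.Perm (Fin 2)) (gs : Fin 2 → GL (Fin a) F),
      x = permGL (factorPerm τ) * pureGL gs := by
    have hperm : ∀ τ τ' : Equiv.Perm (Fin 2), (permGL (factorPerm τ) : GL (Fin 2 → Fin a) F) *
        permGL (factorPerm τ') = permGL (factorPerm (τ * τ')) := fun τ τ' => by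
      rw [permGL_mul]
      congr 1
    have hp1 : (permGL (factorPerm (1 : Equiv.Perm (Fin 2))) : GL (Fin 2 → Fin a) F) = 1 := by
      rw [show factorPerm (1 : Equiv.Perm (Fin 2)) = (Equiv.refl (Fin 2 → Fin a)) from Equiv.ext fun x => rfl,
        permGL_refl]
    have hu1 : pureGL (fun _ : Fin 2 => (1 : GL (Fin a) F)) = 1 :=
      Units.ext (by rw [pureGL_val]; simp [pureMat_one])
    intro x hx
    rw [Geo.tensorWreathStandard] at hx
    induction hx using Subgroup.closure_induction with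
    | mem x hx =>
      rcases hx with ⟨gs, hgs⟩ | ⟨τ, hτ⟩
      · exact ⟨1, gs, by rw [hp1, one_mul]; exact Units.ext (Matrix.ext hgs)⟩
      · refine ⟨τ, fun _ => 1, ?_⟩
        rw [hu1, mul_one]
        refine Units.ext (Matrix.ext fun x y => ?_)
        rw [hτ x y]
        show _ = (1 : Matrix (Fin 2 → Fin a) (Fin 2 → Fin a) F).submatrix (factorPerm τ) id x y
        simp [factorPerm, Matrix.one_apply, eq_comm]
    | one => exact ⟨1, fun _ => 1, by rw [hp1, hu1, one_mul]⟩
    | mul x y _ _ ex ey =>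
      obtain ⟨τ, gs, rfl⟩ := ex
      obtain ⟨τ', gs', rfl⟩ := ey
      exact ⟨τ * τ', _, by rw [mul_assoc, ← mul_assoc (pureGL gs), pureGL_mul_perm, mul_assoc, pureGL_mul,
        ← mul_assoc, hperm]⟩
    | inv x _ ex =>
      obtain ⟨τ, gs, rfl⟩ := ex
      have hinv : (permGL (factorPerm τ) : GL (Fin 2 → Fin a) F)⁻¹ = permGL (factorPerm τ⁻¹) :=
        inv_eq_of_mul_eq_one_right (by rw [hperm, mul_inv_cancel, hp1])
      exact ⟨τ⁻¹, _, by rw [_root_.mul_inv_rev, pureGL_inv, hinv, pureGL_mul_perm]⟩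
  obtain ⟨u, -, hu0, hu⟩ := exists_singular hQ (X := (⊤ : Submodule F (ι → F)))
    (by rwa [finrank_top, Module.finrank_pi])
  obtain ⟨b, hub, hb⟩ := exists_aniso_perp hQ h2 hn u
  have hub' : pol Q u ((2 : F)⁻¹ • b) = 0 := by rw [pol_smul_right hQ, hub, mul_zero]
  obtain ⟨s, -, hs⟩ := exists_siegel hQ hu hub'
  have hs2 : IsSiegel Q (s * s) u b := by
    have h := isSiegel_mul hQ hu hub' hub' hs hs
    rwa [← add_smul, show (2 : F)⁻¹ + (2 : F)⁻¹ = 1 by field_simp; norm_num, one_smul] at h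
  obtain ⟨g₀, hg₀, hne⟩ := exists_siegel_ne_one hQ h2 hu hu0 hub hb
  rw [isSiegel_unique hg₀ hs2] at hne
  obtain ⟨x', ⟨x, hx, rfl⟩, hxs⟩ := hle s u _ hu hub' hs
  obtain ⟨τ, gs, rfl⟩ := hrep x hx
  have hττ : τ * τ = 1 := (show ∀ π : Equiv.Perm (Fin 2), π * π = 1 by decide) τ
  set hs' : Fin 2 → GL (Fin a) F := fun i => gs (τ i) * gs i with hhs
  have hsq : (permGL (factorPerm τ) * pureGL gs) * (permGL (factorPerm τ) * pureGL gs) =
      pureGL (fun i => gs (τ i) * gs i) := by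
    rw [mul_assoc, ← mul_assoc (pureGL gs), pureGL_mul_perm, mul_assoc (permGL (factorPerm τ)), pureGL_mul,
      ← mul_assoc]
    have : (permGL (factorPerm τ) : GL (Fin 2 → Fin a) F) * permGL (factorPerm τ) = 1 := by
      rw [permGL_mul, show (factorPerm τ).trans (factorPerm τ) = Equiv.refl (Fin 2 → Fin a) from
        Equiv.ext fun x => by
          show (x ∘ τ) ∘ τ = x
          rw [Function.comp_assoc, ← Equiv.Perm.coe_mul, hττ]; rfl, permGL_refl]
    rw [this, one_mul]
  set g := s * s with hg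
  have hgval : (g : Matrix ι ι F) =
      cj P ((pureMat fun i => (hs' i : Matrix (Fin a) (Fin a) F)).submatrix e e) := by
    rw [hg, ← hxs, ← map_mul, ← map_mul, hsq]
    simp [cj_apply, Geo.glReindex, pureGL_val, hhs]
  let L : (((Fin 2 → Fin a) → F)) →ₗ[F] ι → F :=
    (Matrix.toLin' (P : Matrix ι ι F)).comp (LinearMap.funLeft F F e)
  have hL : ∀ v, mv g (L v) = L ((pureMat fun i => (hs' i : Matrix (Fin a) (Fin a) F)) *ᵥ v) := by
    intro v
    show (g : Matrix ι ι F) *ᵥ ((P : Matrix ι ι F) *ᵥ (v ∘ e)) =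
      (P : Matrix ι ι F) *ᵥ (((pureMat fun i => (hs' i : Matrix (Fin a) (Fin a) F)) *ᵥ v) ∘ e)
    rw [hgval, cj_apply, Matrix.mulVec_mulVec, Units.inv_mul_cancel_right, ← Matrix.mulVec_mulVec,
      Matrix.submatrix_mulVec_equiv, Function.comp_assoc, Equiv.self_comp_symm, Function.comp_id]
  have hLinj : Function.Injective L := by
    intro v v' h
    have h' : v ∘ e = v' ∘ e := Transvec.mv_inj P h
    exact funext fun l => by simpa using congrFun h' (e.symm l)
  -- both factors are scalar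
  let pt : (Fin 2 → (Fin a → F)) → ((Fin 2 → Fin a) → F) := fun xs f => ∏ i, xs i (f i)
  have hpt : ∀ xs, (pureMat fun i => (hs' i : Matrix (Fin a) (Fin a) F)) *ᵥ pt xs =
      pt fun i => (hs' i : Matrix (Fin a) (Fin a) F) *ᵥ xs i := by
    intro xs
    funext f
    simp only [pt, Matrix.mulVec, dotProduct, pureMat, Matrix.of_apply, ← Finset.prod_mul_distrib]
    exact (Fintype.prod_sum fun i y => (hs' i : Matrix (Fin a) (Fin a) F) (f i) y * xs i y).symm
  have heigen : ∀ (i₀ : Fin 2) (x₀ : Fin a → F), ∃ c : F, (hs' i₀ : Matrix (Fin a) (Fin a) F) *ᵥ x₀ = c • x₀ := by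
    intro i₀ x₀
    obtain ⟨i₁, hi₁⟩ : ∃ i₁, i₁ ≠ i₀ := exists_ne i₀
    have huniv : ∀ (G : Fin 2 → F), ∏ i, G i = G i₀ * G i₁ := fun G => by
      rw [show (Finset.univ : Finset (Fin 2)) = {i₀, i₁} by
        revert i₀ i₁; decide, Finset.prod_pair hi₁.symm]
    let pz : (Fin a → F) →ₗ[F] ((Fin 2 → Fin a) → F) :=
      LinearMap.pi fun f => x₀ (f i₀) • LinearMap.proj (f i₁)
    have hpz : ∀ z, pz z = pt (Function.update (fun _ => z) i₀ x₀) := fun z => by
      funext f
      simp [pz, pt, huniv, hi₁]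
    obtain ⟨z, hz1, hz0⟩ : ∃ z, (formQ hQ u (L (pz z)) = 0 ∧ formQ hQ b (L (pz z)) = 0) ∧ z ≠ 0 := by
      let φ : (Fin a → F) →ₗ[F] F × F := ((formQ hQ u).comp (L.comp pz)).prod ((formQ hQ b).comp (L.comp pz))
      have hker : LinearMap.ker φ ≠ ⊥ := by
        intro h
        have h' := LinearMap.finrank_le_finrank_of_injective (LinearMap.ker_eq_bot.1 h)
        rw [Module.finrank_prod, Module.finrank_self, Module.finrank_pi, Fintype.card_fin] at h'
        omega
      obtain ⟨z, hz, hz0⟩ := (Submodule.ne_bot_iff _).1 hker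
      exact ⟨z, ⟨congrArg Prod.fst (hz : φ z = 0), congrArg Prod.snd (hz : φ z = 0)⟩, hz0⟩
    have hfix : mv g (L (pz z)) = L (pz z) := isSiegel_fix hQ hs2 hz1.1 hz1.2
    rw [hL, hpz, hpt] at hfix
    have h := hLinj hfix
    obtain ⟨s₀, hs₀⟩ := Function.ne_iff.1 hz0
    simp only [Pi.zero_apply] at hs₀
    have hf : ∀ r, ((hs' i₀ : Matrix (Fin a) (Fin a) F) *ᵥ x₀) r *
        ((hs' i₁ : Matrix (Fin a) (Fin a) F) *ᵥ z) s₀ = x₀ r * z s₀ := by
      intro r
      have := congrFun h (Function.update (fun _ => s₀) i₀ r)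
      simp only [pt, huniv, Function.update_self, Function.update_of_ne hi₁] at this
      exact this
    by_cases h0 : ((hs' i₁ : Matrix (Fin a) (Fin a) F) *ᵥ z) s₀ = 0
    · refine ⟨0, funext fun r => ?_⟩
      have hx0 : x₀ = 0 := funext fun r => by
        have := hf r
        rw [h0, mul_zero] at this
        exact (mul_eq_zero.1 this.symm).resolve_right hs₀
      rw [hx0, Matrix.mulVec_zero, smul_zero]
    · refine ⟨z s₀ / ((hs' i₁ : Matrix (Fin a) (Fin a) F) *ᵥ z) s₀, funext fun r => ?_⟩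
      rw [Pi.smul_apply, smul_eq_mul]
      field_simp
      linear_combination hf r
  choose c hc using fun i => eq_smul_one_of_eigen (heigen i)
  have hscal : ∀ z, mv g z = (∏ i, c i) • z := by
    intro z
    obtain ⟨v, rfl⟩ : ∃ v, L v = z := ⟨(mv P⁻¹ z) ∘ e.symm, by
      show (P : Matrix ι ι F) *ᵥ (((mv P⁻¹ z) ∘ e.symm) ∘ e) = z
      rw [Function.comp_assoc, Equiv.symm_comp_self, Function.comp_id]
      exact mv_mv_inv P z⟩
    rw [hL, show (fun i => (hs' i : Matrix (Fin a) (Fin a) F)) = fun i => c i • (1 : Matrix (Fin a) (Fin a) F)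
      from funext hc, pureMat_smul, pureMat_one, Matrix.smul_mulVec, Matrix.one_mulVec, map_smul]
  have huu : mv g u = u := isSiegel_fix hQ hs2 (by rw [pol_self hQ, hu, mul_zero]) hub
  rw [hscal] at huu
  have hc1 : ∏ i, c i = 1 := smul_left_injective F hu0 (show _ • u = (1 : F) • u by rw [huu, one_smul])
  exact hne (ext_mv fun z => by rw [hscal, hc1, one_smul, mv_one])

end Cfsg.Agent.OrthOddMax
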