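/-
Over three elements a decomposition into orthogonal isometric 3-spaces is refined by a decomposition into lines.
-/
import Cfsg.Agent.Lib.Transvec.OrthFrame
import Cfsg.Agent.Lib.Aschbacher.FormFrames

set_option autoImplicit false

namespace Cfsg.Agent.OrthOddMax

open scoped Matrix
open Matrix Cfsg.Agent.Transvec Cfsg.Agent.Transvec.Orth

variable {ι : Type} [Fintype ι] [DecidableEq ι] {F : Type*} [Field F] [Fintype F] {Q : (ι → F) → F}
variable (hQ : Geo.IsNondegenerateQuadraticForm Q)
include hQ

/-- A non-degenerate 3-space over three elements has an orthogonal basis of vectors of one value. -/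
theorem exists_frame (hq : Fintype.card F = 3) {X : Submodule F (ι → F)} (hX : Nondeg Q X)
    (h3 : Module.finrank F X = 3) :
    ∃ c : F, c ≠ 0 ∧ ∃ T : (Fin 3 → F) ≃ₗ[F] X, ∀ v, Q (T v : ι → F) = c * (v 0 ^ 2 + v 1 ^ 2 + v 2 ^ 2) := by
  have h2 : (2 : F) ≠ 0 := two_ne_zero_of_odd_card (by rw [hq]; decide)
  have h30 : (3 : F) = 0 := by
    have h := FiniteField.cast_card_eq_zero F
    rw [hq] at h
    exact_mod_cast h
  obtain ⟨e, he, he0, hee⟩ := exists_singular hQ (X := X) (by omega)
  obtain ⟨f, hf, hff, hef⟩ := exists_partner hQ hX he he0 hee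
  obtain ⟨hPn, hP2⟩ := nondeg_pair hQ hee hff hef
  have hle : Submodule.span F ({e, f} : Set (ι → F)) ≤ X := Submodule.span_le.2 (by
    rintro z (rfl | rfl) <;> assumption)
  have hd := finrank_inf_orth_add hQ hPn hle
  obtain ⟨z, hz, hzz⟩ := exists_anisotropic hQ (nondeg_inf_orth hQ hPn hX hle) fun h => by
    rw [h, finrank_bot, hP2] at hd; omega
  have hez : pol Q e z = 0 := hz.2 e (Submodule.subset_span (Set.mem_insert _ _))
  have hfz : pol Q f z = 0 := hz.2 f (Submodule.subset_span (Set.mem_insert_of_mem _ rfl))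
  set c := Q z with hc
  set w := e + c • f with hw
  have hwm : w ∈ X := X.add_mem he (X.smul_mem _ hf)
  let f₁ : X := ⟨e - c • f, X.sub_mem he (X.smul_mem _ hf)⟩
  let f₂ : X := ⟨z + w, X.add_mem hz.1 hwm⟩
  let f₃ : X := ⟨z - w, X.sub_mem hz.1 hwm⟩
  let T₀ : (Fin 3 → F) →ₗ[F] X :=
    { toFun := fun v => v 0 • f₁ + v 1 • f₂ + v 2 • f₃
      map_add' := fun u v => by simp only [Pi.add_apply]; module
      map_smul' := fun r v => by simp only [Pi.smul_apply, RingHom.id_apply, smul_eq_mul]; module }
  have hev : ∀ v, Q (T₀ v : ι → F) = -c * (v 0 ^ 2 + v 1 ^ 2 + v 2 ^ 2) := by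
    intro v
    show Q (v 0 • (e - c • f) + v 1 • (z + w) + v 2 • (z - w)) = _
    rw [show v 0 • (e - c • f) + v 1 • (z + w) + v 2 • (z - w) =
      (v 0 + v 1 - v 2) • e + (c * (-v 0 + v 1 - v 2)) • f + (v 1 + v 2) • z by rw [hw]; module]
    rw [q_add hQ, q_add hQ, q_smul hQ, q_smul hQ, q_smul hQ, pol_add_left hQ, pol_smul_left hQ, pol_smul_left hQ,
      pol_smul_left hQ, pol_smul_right hQ, pol_smul_right hQ, pol_smul_right hQ, hee, hff, hef, hez, hfz]
    linear_combination c * (v 1 ^ 2 + v 2 ^ 2) * h30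
  have hinj : Function.Injective T₀ := by
    rw [← LinearMap.ker_eq_bot, LinearMap.ker_eq_bot']
    intro v hv
    have key : ∀ u : Fin 3 → F, c * (2 * (v 0 * u 0 + v 1 * u 1 + v 2 * u 2)) = 0 := fun u => by
      have h1 := hev (v + u)
      rw [map_add, hv, zero_add] at h1
      have h1' := hev v
      rw [hv, Submodule.coe_zero, q_zero hQ] at h1'
      rw [hev u] at h1
      simp only [Pi.add_apply] at h1
      linear_combination h1 - h1'
    funext i
    have h := key (Pi.single i 1)
    have : v i = 0 := by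
      fin_cases i <;> simpa [hzz, h2] using h
    exact this
  let T := T₀.linearEquivOfInjective hinj (by rw [Module.finrank_fin_fun, h3])
  exact ⟨-c, neg_ne_zero.2 hzz, T, fun v => hev v⟩

omit hQ in
/-- In three coordinates a sum of squares equal to one has one non-zero term. -/
theorem sum_sq_eq_one (hq : Fintype.card F = 3) {v : Fin 3 → F} (hs : v 0 ^ 2 + v 1 ^ 2 + v 2 ^ 2 = 1) :
    ∃ i, v i ≠ 0 ∧ v = v i • (Pi.single i 1 : Fin 3 → F) := by
  have h2 : (2 : F) ≠ 0 := two_ne_zero_of_odd_card (by rw [hq]; decide)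
  have h2one : (1 : F) + 1 ≠ 1 := fun h => one_ne_zero (α := F) (by linear_combination h)
  have sq1 : ∀ {x : F}, x ≠ 0 → x ^ 2 = 1 := fun {x} hx => by
    have := FiniteField.pow_card_sub_one_eq_one x hx
    rwa [hq] at this
  have fin : ∀ i, v i ≠ 0 → (∀ j, j ≠ i → v j = 0) → ∃ i, v i ≠ 0 ∧ v = v i • (Pi.single i 1 : Fin 3 → F) :=
    fun i hi ho => ⟨i, hi, funext fun j => by
      rcases eq_or_ne j i with rfl | hj
      · simp
      · simp [ho j hj, hj]⟩
  by_cases a0 : v 0 = 0 <;> by_cases a1 : v 1 = 0 <;> by_cases a2 : v 2 = 0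
  · rw [a0, a1, a2] at hs
    exact absurd (show (1 : F) = 0 by linear_combination -hs) one_ne_zero
  · exact fin 2 a2 fun j hj => by fin_cases j <;> simp_all
  · exact fin 1 a1 fun j hj => by fin_cases j <;> simp_all
  · rw [a0, sq1 a1, sq1 a2] at hs
    exact absurd (by linear_combination hs) h2one
  · exact fin 0 a0 fun j hj => by fin_cases j <;> simp_all
  · rw [a1, sq1 a0, sq1 a2] at hs
    exact absurd (by linear_combination hs) h2one
  · rw [a2, sq1 a0, sq1 a1] at hs
    exact absurd (by linear_combination hs) h2one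
  · rw [sq1 a0, sq1 a1, sq1 a2] at hs
    exact absurd (show (2 : F) = 0 by linear_combination hs) h2

/-- The isometries stabilising the 3-spaces stabilise a decomposition into lines. -/
theorem refine_three (hq : Fintype.card F = 3) {t : ℕ} {D : Fin t → Submodule F (ι → F)}
    (hD : Geo.IsOrthogonalMDecomposition Q 3 D) :
    ∃ L : Fin (Fintype.card ι) → Submodule F (ι → F), Geo.IsOrthogonalMDecomposition Q 1 L ∧
      ∀ g ∈ isometryGroup F Q, g ∈ Geo.decompositionStabilizer D → g ∈ Geo.decompositionStabilizer L := by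
  classical
  have h2 : (2 : F) ≠ 0 := two_ne_zero_of_odd_card (by rw [hq]; decide)
  have htn := Aschbacher.mdecomp_card hD.decomp.decomp
  set o : Fin t := ⟨0, by have := hD.decomp.decomp.two_le; omega⟩
  obtain ⟨c, hc, T, hT⟩ := exists_frame hQ hq (block_nondeg hD o) (hD.decomp.decomp.finrank_eq o)
  choose E hE using hD.isometric o
  let idx : Fin (Fintype.card ι) ≃ Fin t × Fin 3 := (finCongr htn.symm).trans finProdFinEquiv.symm
  let b : Fin (Fintype.card ι) → ι → F := fun l => E (idx l).1 (T (Pi.single (idx l).2 1))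
  have hbD : ∀ l, b l ∈ D (idx l).1 := fun l => (E _ _).2
  have hbv : ∀ l, Q (b l) = c := fun l => by
    rw [hE, hT]
    generalize (idx l).2 = j
    fin_cases j <;> simp
  have hb0 : ∀ l, b l ≠ 0 := fun l h => hc (by rw [← hbv l, h, q_zero hQ])
  have horth : ∀ l l', l ≠ l' → pol Q (b l) (b l') = 0 := by
    intro l l' hne
    by_cases h : (idx l).1 = (idx l').1
    · have hj : (idx l).2 ≠ (idx l').2 := fun h' => hne (idx.injective (Prod.ext h h'))
      have key : Q (b l + b l') = c + c := by
        show Q (_ + ((E (idx l').1 (T (Pi.single (idx l').2 1)) : D (idx l').1) : ι → F)) = _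
        rw [← h, ← Submodule.coe_add, ← map_add, hE, ← map_add, hT]
        generalize (idx l).2 = j at hj ⊢
        generalize (idx l').2 = j' at hj ⊢
        fin_cases j <;> fin_cases j' <;> simp_all <;> ring
      rw [q_add hQ, hbv, hbv] at key
      linear_combination key
    · exact block_orth hD h (hbD l) (hbD l')
  have hli : LinearIndependent F b := Fintype.linearIndependent_iff.2 fun a ha l => by
    have h := congrArg (formQ hQ (b l)) ha
    simp only [map_sum, map_smul, formQ_apply, map_zero, smul_eq_mul] at h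
    rw [Finset.sum_eq_single l (fun x _ hx => by rw [horth x l hx, mul_zero]) (by simp), pol_self hQ, hbv] at h
    exact (mul_eq_zero.1 h).resolve_right (mul_ne_zero h2 hc)
  have hspan : Submodule.span F (Set.range b) = ⊤ :=
    hli.span_eq_top_of_card_eq_finrank' (by rw [Fintype.card_fin, Module.finrank_pi])
  refine ⟨fun l => Submodule.span F {b l}, ⟨⟨⟨?_, one_pos, fun l => finrank_span_singleton (hb0 l),
    hli.iSupIndep_span_singleton, ?_⟩, fun l w hw hw0 => ?_, fun l l' hne u hu v hv => ?_⟩,
    fun l l' => Aschbacher.areIsometric_span (fun a v => q_smul hQ a v) (hb0 l) (hb0 l') (by rw [hbv, hbv])⟩, ?_⟩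
  · have := hD.decomp.decomp.two_le
    omega
  · rw [← Submodule.span_range_eq_iSup, hspan]
  · obtain ⟨a, rfl⟩ := Submodule.mem_span_singleton.1 hw
    have hne : pol Q (b l) (a • b l) ≠ 0 := by
      rw [pol_smul_right hQ, pol_self hQ, hbv]
      exact mul_ne_zero (fun h => hw0 (by rw [h, zero_smul])) (mul_ne_zero h2 hc)
    exact ⟨⟨b l, Submodule.mem_span_singleton_self _, hne⟩,
      b l, Submodule.mem_span_singleton_self _, by rwa [QuadraticMap.polar_comm]⟩
  · obtain ⟨x, rfl⟩ := Submodule.mem_span_singleton.1 hu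
    obtain ⟨y, rfl⟩ := Submodule.mem_span_singleton.1 hv
    show pol Q _ _ = 0
    rw [pol_smul_left hQ, pol_smul_right hQ, horth l l' hne, mul_zero, mul_zero]
  -- stabilisers
  intro g hg hgD
  obtain ⟨σ, hσ⟩ := hgD
  have key : ∀ l, ∃ l', (Submodule.span F {b l}).map (Matrix.toLin' (g : Matrix ι ι F)) = Submodule.span F {b l'} := by
    intro l
    have hm : mv g (b l) ∈ D (σ (idx l).1) := (hσ _).le ⟨b l, hbD l, by simp [mv]⟩
    obtain ⟨x, hx⟩ := (E (σ (idx l).1)).surjective ⟨_, hm⟩
    obtain ⟨v, rfl⟩ := T.surjective x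
    have hval : Q (T v : ι → F) = c := by
      rw [← hE (σ (idx l).1), hx]
      show Q (mv g (b l)) = c
      rw [mem_isometry.1 hg, hbv]
    rw [hT] at hval
    obtain ⟨j, hj, hv⟩ := sum_sq_eq_one hq
      (mul_left_cancel₀ hc (hval.trans (mul_one c).symm))
    refine ⟨idx.symm (σ (idx l).1, j), ?_⟩
    have e : mv g (b l) = v j • b (idx.symm (σ (idx l).1, j)) := by
      have h1 : b (idx.symm (σ (idx l).1, j)) = (E (σ (idx l).1) (T (Pi.single j 1)) : ι → F) := by
        simp only [b]
        rw [Equiv.apply_symm_apply]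
      rw [h1, ← Submodule.coe_smul, ← map_smul, ← map_smul, ← hv, hx]
    rw [Submodule.map_span, Set.image_singleton,
      show Matrix.toLin' (g : Matrix ι ι F) (b l) = mv g (b l) from Matrix.toLin'_apply _ _, e,
      Submodule.span_singleton_smul_eq (Ne.isUnit hj)]
  choose p hp using key
  have hpinj : Function.Injective p := by
    intro l l' h
    by_contra hne
    have he : Submodule.span F {b l} = Submodule.span F {b l'} :=
      Submodule.map_injective_of_injective (f := Matrix.toLin' (g : Matrix ι ι F))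
        (fun x y hxy => mv_inj g (by simpa [mv] using hxy)) (by rw [hp, hp, h])
    obtain ⟨a, ha⟩ := Submodule.mem_span_singleton.1 (he.le (Submodule.mem_span_singleton_self _))
    have h' := horth l' l (Ne.symm hne)
    rw [← ha, pol_smul_right hQ, pol_self hQ, hbv] at h'
    exact hb0 l (by rw [← ha, (mul_eq_zero.1 h').resolve_right (mul_ne_zero h2 hc), zero_smul])
  exact ⟨Equiv.ofBijective p hpinj.bijective_of_finite, hp⟩

end Cfsg.Agent.OrthOddMax
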