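/-
Every maximal subgroup of Ω in odd dimension is cut out by one of the refined geometric structures or is residual.
-/
import Cfsg.Agent.Lib.OrthOddMax.NotLe
import Cfsg.Agent.Lib.OrthOddMax.Frame
import Cfsg.Agent.Lib.Transvec.OrthNondeg
import Cfsg.Agent.Lib.Aschbacher.OrthStructure
import Cfsg.Agent.Lib.Aschbacher.Normal

set_option autoImplicit false

namespace Cfsg.Agent.OrthOddMax

open scoped Matrix
open Matrix Cfsg.Agent.Transvec Cfsg.Agent.Transvec.Orth

section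

variable {ι : Type} [Fintype ι] [DecidableEq ι] {F : Type*} [Field F] [Fintype F] {Q : (ι → F) → F}
variable (hQ : Geo.IsNondegenerateQuadraticForm Q) (h2 : (2 : F) ≠ 0)
include hQ h2

/-- A maximal subgroup inside a structure which misses a Siegel element is cut out by it. -/
theorem eq_inf (hn : 3 ≤ Fintype.card ι) {H S : Subgroup (GL ι F)} (hH : Geo.IsMaximalIn (Geo.omegaGL Q) H)
    (hle : H ≤ S) (hS : ¬ SiegelIn Q S) : H = S ⊓ Geo.omegaGL Q := by
  rcases hH.2 _ (le_inf hle hH.1.le) inf_le_right with h | h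
  · exact h.symm
  · exact absurd (siegelIn_of_omega_le hQ h2 hn (h.ge.trans inf_le_left)) hS

omit h2 [Fintype F] in
theorem nondeg_of {W : Submodule F (ι → F)} (h : Geo.IsNondegenerateOn (QuadraticMap.polar Q) W) :
    Nondeg Q W := fun u hu hperp => by
  by_contra hu0
  obtain ⟨⟨x, hx, hxu⟩, -⟩ := h u hu hu0
  exact hxu (hperp x hx)

omit hQ h2 [Fintype F] in
theorem nondeg_on {W : Submodule F (ι → F)} (h : Nondeg Q W) :
    Geo.IsNondegenerateOn (QuadraticMap.polar Q) W := fun w hw hw0 => by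
  by_contra hc
  refine hw0 (h w hw fun x hx => ?_)
  by_contra hxw
  exact hc ⟨⟨x, hx, hxw⟩, x, hx, by rwa [QuadraticMap.polar_comm]⟩

/-- The even-dimensional choice of a stabilised non-degenerate subspace. -/
theorem even_nondeg (hn : 5 ≤ Fintype.card ι) (hodd : Odd (Fintype.card ι)) {H : Subgroup (GL ι F)}
    (hH : Geo.IsMaximalIn (Geo.omegaGL Q) H) {W : Submodule F (ι → F)} (hW : Nondeg Q W) (h0 : W ≠ ⊥) (h1 : W ≠ ⊤)
    (hle : H ≤ Geo.subspaceStabilizer W) :
    ∃ U : Submodule F (ι → F), U ≠ ⊥ ∧ Even (Module.finrank F U) ∧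
      Geo.IsNondegenerateOn (QuadraticMap.polar Q) U ∧
      ¬ (Fintype.card F = 3 ∧ Module.finrank F U = 2 ∧ Geo.IsPlusTypeOn Q U) ∧
      H = Geo.subspaceStabilizer U ⊓ Geo.omegaGL Q := by
  classical
  -- an even-dimensional one
  obtain ⟨U, hUn, hU0, hU1, hUe, hUle⟩ : ∃ U : Submodule F (ι → F), Nondeg Q U ∧ U ≠ ⊥ ∧ U ≠ ⊤ ∧
      Even (Module.finrank F U) ∧ H ≤ Geo.subspaceStabilizer U := by
    by_cases he : Even (Module.finrank F W)
    · exact ⟨W, hW, h0, h1, he, hle⟩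
    · obtain ⟨ho, hd⟩ := orth_nondeg hQ hW
      have hlt : Module.finrank F W < Fintype.card ι := by
        have := Submodule.finrank_lt h1
        rwa [Module.finrank_pi] at this
      refine ⟨orth hQ W, ho, fun h => by rw [h, finrank_bot] at hd; omega, fun h => ?_, ?_,
        fun g hg => mem_stab_orth hQ (omega_le_isometry hQ (hH.1.le hg)) (hle hg)⟩
      · rw [h, finrank_top, Module.finrank_pi] at hd
        exact h0 (Submodule.finrank_eq_zero.1 (by omega))
      · rw [Nat.not_even_iff_odd, Nat.odd_iff] at he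
        rw [Nat.odd_iff] at hodd
        rw [Nat.even_iff]
        omega
  by_cases hex : Fintype.card F = 3 ∧ Module.finrank F U = 2 ∧ Geo.IsPlusTypeOn Q U
  swap
  · exact ⟨U, hU0, hUe, nondeg_on hUn, hex, eq_inf hQ h2 (by omega) hH hUle
      (not_siegelIn_subspace hQ h2 (by omega) hU0 hU1)⟩
  obtain ⟨hq, hU2, V, hVU, hV, hV2⟩ := hex
  obtain ⟨e, he, he0⟩ := V.ne_bot_iff.1 fun h => by rw [h, finrank_bot] at hV2; omega
  obtain ⟨f, hf, hff, hef⟩ := exists_partner hQ hUn (hVU he) he0 (hV e he)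
  obtain ⟨-, hP2⟩ := nondeg_pair hQ (hV e he) hff hef
  have hspan : Submodule.span F ({e, f} : Set (ι → F)) = U :=
    Submodule.eq_of_le_of_finrank_le (Submodule.span_le.2 (by
      rintro z (rfl | rfl)
      · exact hVU he
      · exact hf)) (by omega)
  have hee : Q e = 0 := hV e he
  set a := e + f with ha
  have haU : a ∈ U := U.add_mem (hVU he) hf
  have hQa : Q a = 1 := by rw [ha, q_add hQ, hee, hff, hef]; ring
  have ha0 : a ≠ 0 := fun h => by rw [h, q_zero hQ] at hQa; exact zero_ne_one hQa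
  set A := Submodule.span F {a} with hA
  have hAle : H ≤ Geo.subspaceStabilizer A := fun g hg => mem_subspaceStabilizer_of_le fun z hz => by
    obtain ⟨r, rfl⟩ := Submodule.mem_span_singleton.1 hz
    obtain ⟨x, y, hxy⟩ := Submodule.mem_span_pair.1 (hspan.ge (mv_mem_of_mem_stab (hUle hg) haU))
    have hv : x * y = 1 := by
      have := congrArg Q hxy
      rw [mem_isometry.1 (omega_le_isometry hQ (hH.1.le hg)), hQa, q_add hQ, q_smul hQ, q_smul hQ,
        pol_smul_left hQ, pol_smul_right hQ, hee, hff, hef] at this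
      linear_combination this
    have hx0 : x ≠ 0 := fun h => by rw [h, zero_mul] at hv; exact zero_ne_one hv
    have hx1 : x ^ 2 = 1 := by
      have := FiniteField.pow_card_sub_one_eq_one x hx0
      rwa [hq] at this
    have hyx : y = x := mul_left_cancel₀ hx0 (by linear_combination hv - hx1)
    rw [mv_smul, ← hxy, hyx, ← smul_add, smul_smul]
    exact Submodule.smul_mem _ _ (Submodule.mem_span_singleton_self _)
  have hAn : Nondeg Q A := fun u hu h => by
    obtain ⟨r, rfl⟩ := Submodule.mem_span_singleton.1 hu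
    have h' := h a (Submodule.mem_span_singleton_self a)
    rw [pol_smul_right hQ, pol_self hQ, hQa, mul_one] at h'
    rw [(mul_eq_zero.1 h').resolve_right h2, zero_smul]
  have hA1 : Module.finrank F A = 1 := finrank_span_singleton ha0
  obtain ⟨ho, hd⟩ := orth_nondeg hQ hAn
  rw [Nat.odd_iff] at hodd
  refine ⟨orth hQ A, fun h => by rw [h, finrank_bot] at hd; omega, Nat.even_iff.2 (by omega), nondeg_on ho,
    fun h => by omega, ?_⟩
  rw [stab_inf_omega_orth hQ hAn]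
  exact eq_inf hQ h2 (by omega) hH hAle (not_siegelIn_subspace hQ h2 (by omega)
    (fun h => ha0 (by simpa [hA, Submodule.span_singleton_eq_bot] using h))
    (fun h => by
      have h' := hA1
      rw [h, finrank_top, Module.finrank_pi] at h'
      omega))

end

variable {F : Type*} [Field F] [Fintype F]

/-- The refined list of structures in dimension 2m+1. -/
theorem maximal_cases (hodd : Odd (Fintype.card F)) (m : ℕ) (hm : 3 ≤ m)
    (H : Subgroup (GL (Unit ⊕ (Fin m ⊕ Fin m)) F))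
    (hH : Geo.IsMaximalIn (Geo.omegaGL (quadFormOdd m F)) H) :
    (∃ W : Submodule F (Unit ⊕ (Fin m ⊕ Fin m) → F), W ≠ ⊥ ∧ Geo.IsTotallySingularQuad (quadFormOdd m F) W ∧
      H = Geo.subspaceStabilizer W ⊓ Geo.omegaGL (quadFormOdd m F)) ∨
    (∃ W : Submodule F (Unit ⊕ (Fin m ⊕ Fin m) → F), W ≠ ⊥ ∧ Even (Module.finrank F W) ∧
      Geo.IsNondegenerateOn (QuadraticMap.polar (quadFormOdd m F)) W ∧
      ¬ (Fintype.card F = 3 ∧ Module.finrank F W = 2 ∧ Geo.IsPlusTypeOn (quadFormOdd m F) W) ∧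
      H = Geo.subspaceStabilizer W ⊓ Geo.omegaGL (quadFormOdd m F)) ∨
    ((Fintype.card F).Prime ∧ ∃ D : Fin (2 * m + 1) → Submodule F (Unit ⊕ (Fin m ⊕ Fin m) → F),
      Geo.IsOrthogonalMDecomposition (quadFormOdd m F) 1 D ∧
      H = Geo.decompositionStabilizer D ⊓ Geo.omegaGL (quadFormOdd m F)) ∨
    (∃ (t k : ℕ) (D : Fin t → Submodule F (Unit ⊕ (Fin m ⊕ Fin m) → F)), 2 ≤ t ∧ 2 ≤ k ∧ t * k = 2 * m + 1 ∧
      ¬ (Fintype.card F = 3 ∧ k = 3) ∧ Geo.IsOrthogonalMDecomposition (quadFormOdd m F) k D ∧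
      H = Geo.decompositionStabilizer D ⊓ Geo.omegaGL (quadFormOdd m F)) ∨
    (∃ (r : ℕ) (K : Subalgebra F (Matrix (Unit ⊕ (Fin m ⊕ Fin m)) (Unit ⊕ (Fin m ⊕ Fin m)) F)), r.Prime ∧
      2 * m + 1 ≠ r ∧ r ∣ 2 * m + 1 ∧ Geo.IsFieldSubalgebra r K ∧
      Geo.IsSelfAdjointFor (QuadraticMap.polar (quadFormOdd m F)) K ∧
      H = Geo.subalgebraNormalizer K ⊓ Geo.omegaGL (quadFormOdd m F)) ∨
    (∃ n₁ n₂ : ℕ, 3 ≤ n₁ ∧ n₁ < n₂ ∧ n₁ * n₂ = 2 * m + 1) ∨
    (∃ (F₀ : Subfield F) (r : ℕ) (P : GL (Unit ⊕ (Fin m ⊕ Fin m)) F), r.Prime ∧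
      Fintype.card F = Nat.card F₀ ^ r ∧ Geo.IsQuadFormRationalStructure (quadFormOdd m F) F₀ P ∧
      H = Geo.subfieldSubgroup F₀ P ⊓ Geo.omegaGL (quadFormOdd m F)) ∨
    (∃ (k t : ℕ) (e : (Unit ⊕ (Fin m ⊕ Fin m)) ≃ (Fin t → Fin k)) (P : GL (Unit ⊕ (Fin m ⊕ Fin m)) F)
      (f₁ : (Fin k → F) → (Fin k → F) → F), 3 ≤ k ∧ 2 ≤ t ∧ k ^ t = 2 * m + 1 ∧
      ¬ (Fintype.card F = 3 ∧ k = 3) ∧ Geo.IsSymmetricForm f₁ ∧
      Geo.IsTensorPowerFormStructure id (QuadraticMap.polar (quadFormOdd m F)) f₁ e P ∧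
      (t = 2 → H = Geo.tensorWreathSubgroup k t e P ⊓ Geo.omegaGL (quadFormOdd m F))) ∨
    Geo.InOrthogonalResidualClass H := by
  classical
  set Q := quadFormOdd m F with hQdef
  have h2 : (2 : F) ≠ 0 := two_ne_zero_of_odd_card hodd
  have hQ := quadFormOdd_nondegenerate (F := F) m h2
  have hn : Fintype.card (Unit ⊕ (Fin m ⊕ Fin m)) = 2 * m + 1 := by simp [Fintype.card_sum]; omega
  have hI : H ≤ isometryGroup F Q := hH.1.le.trans (omega_le_isometry hQ)
  rcases Aschbacher.orthStructure hodd m (by omega) H hI (hH.1.le.trans (Aschbacher.omegaGL_le_specialLinear Q))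
    with ⟨M, hM, hHM⟩ | hres
  swap
  · exact Or.inr <| Or.inr <| Or.inr <| Or.inr <| Or.inr <| Or.inr <| Or.inr <| Or.inr hres
  rcases hM with ⟨W, h0, hW, rfl⟩ | ⟨W, h0, h1, hW, rfl⟩ | ⟨t, k, D, hk, hD, rfl⟩ | ⟨t, D, hp, hD, rfl⟩ |
    ⟨r, K, hr, hne, hK, hadj, rfl⟩ | ⟨n₁, n₂, e, P, f₁, f₂, hn₁, hlt, -, -, -, rfl⟩ |
    ⟨F₀, r, P, hr, hc, hrat, rfl⟩ | ⟨k, t, e, P, f₁, hk, ht, hne, hsym, hstr, rfl⟩
  all_goals have hle := hHM.trans inf_le_left
  · have h1 : W ≠ ⊤ := fun h => by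
      obtain ⟨a, -, ha⟩ := exists_aniso_perp hQ h2 (by omega) (0 : Unit ⊕ (Fin m ⊕ Fin m) → F)
      exact ha (hW a (h ▸ Submodule.mem_top))
    exact Or.inl ⟨W, h0, hW, eq_inf hQ h2 (by omega) hH hle (not_siegelIn_subspace hQ h2 (by omega) h0 h1)⟩
  · exact Or.inr <| Or.inl <| even_nondeg hQ h2 (by omega) ⟨m, hn⟩ hH (nondeg_of hQ hW) h0 h1 hle
  · have htk := Aschbacher.mdecomp_card hD.decomp.decomp
    rw [hn] at htk
    have ht := hD.decomp.decomp.two_le
    by_cases hex : Fintype.card F = 3 ∧ k = 3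
    · obtain ⟨hq, rfl⟩ := hex
      obtain ⟨L, hL, hLle⟩ := refine_three hQ hq hD
      refine Or.inr <| Or.inr <| Or.inl ⟨by rw [hq]; exact Nat.prime_three, ?_⟩
      revert L
      rw [hn]
      intro L hL hLle
      exact ⟨L, hL, eq_inf hQ h2 (by omega) hH (fun g hg => hLle g (hI hg) (hle hg))
        (not_siegelIn_decomposition hQ h2 hL.decomp (by omega))⟩
    · have hk3 : k + 3 ≤ 2 * m + 1 := by
        have : 3 ≤ t := by
          by_contra h
          interval_cases t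
          omega
        nlinarith
      exact Or.inr <| Or.inr <| Or.inr <| Or.inl ⟨t, k, D, ht, hk, htk, hex, hD,
        eq_inf hQ h2 (by omega) hH hle (not_siegelIn_decomposition hQ h2 hD.decomp (by omega))⟩
  · have htk := Aschbacher.mdecomp_card hD.decomp.decomp
    rw [hn, mul_one] at htk
    subst htk
    exact Or.inr <| Or.inr <| Or.inl ⟨hp, D, hD,
      eq_inf hQ h2 (by omega) hH hle (not_siegelIn_decomposition hQ h2 hD.decomp (by omega))⟩
  · have hdvd := Aschbacher.dvd_card_of_isFieldSubalgebra hK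
    rw [hn] at hdvd
    exact Or.inr <| Or.inr <| Or.inr <| Or.inr <| Or.inl ⟨r, K, hr, hne, hdvd, hK, hadj,
      eq_inf hQ h2 (by omega) hH hle (not_siegelIn_field hQ h2 (by omega) hr.two_le hK)⟩
  · have := Fintype.card_congr e
    rw [hn, Fintype.card_prod, Fintype.card_fin, Fintype.card_fin] at this
    exact Or.inr <| Or.inr <| Or.inr <| Or.inr <| Or.inr <| Or.inl ⟨n₁, n₂, hn₁, hlt, this.symm⟩
  · have hne : F₀ ≠ ⊤ := fun h => by
      subst h
      have : Nat.card (⊤ : Subfield F) = Fintype.card F := by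
        rw [← Nat.card_eq_fintype_card]
        exact Nat.card_congr (Equiv.Set.univ F)
      rw [this] at hc
      have h' := hc.symm.trans (pow_one _).symm
      exact hr.one_lt.ne' (Nat.pow_right_injective Fintype.one_lt_card h')
    exact Or.inr <| Or.inr <| Or.inr <| Or.inr <| Or.inr <| Or.inr <| Or.inl ⟨F₀, r, P, hr, hc, hrat,
      eq_inf hQ h2 (by omega) hH hle (not_siegelIn_subfield hQ h2 (by omega) hne P)⟩
  · have := Fintype.card_congr e
    rw [hn, Fintype.card_fun, Fintype.card_fin, Fintype.card_fin] at this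
    refine Or.inr <| Or.inr <| Or.inr <| Or.inr <| Or.inr <| Or.inr <| Or.inr <| Or.inl
      ⟨k, t, e, P, f₁, hk, ht, this.symm, hne, hsym, hstr, fun ht2 => ?_⟩
    subst ht2
    exact eq_inf hQ h2 (by omega) hH hle (not_siegelIn_tensorSquare hQ h2 hk e P)

end Cfsg.Agent.OrthOddMax
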